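import Groth.Agent.RootCh.K817.Invar

/-!
# Special facets: the gallery inequality and its consequences
-/

set_option autoImplicit false
set_option linter.unusedSectionVars false
set_option linter.unusedVariables false
universe u v w x

noncomputable section

namespace K817.Special

open RootCh K816.Basics K816.Chambers K816.Corners K816.Gallery K817.Invar

variable {ι : Type u} {R : Type v} {M : Type w} {N : Type x}
variable [Field R] [LinearOrder R] [IsStrictOrderedRing R]
variable [AddCommGroup M] [Module R M] [AddCommGroup N] [Module R N] [Finite ι]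
variable {P : RootPairing ι R M N} [P.IsRootSystem] [P.IsCrystallographic] [P.IsReduced]
variable {d : P.Base → N}

/-- For `a` in the closed chamber of `b`, the value at `d b` is the minimum over the solid. -/
theorem le_of_mem_solid (hd : IsCCS d) {b : P.Base} {a : M} (ha : a ∈ closedChamber b) {y : N}
    (hy : y ∈ solid d) : P.toLinearMap a (d b) ≤ P.toLinearMap a y := by
  have hconv : Convex R {y : N | P.toLinearMap a (d b) ≤ P.toLinearMap a y} := by
    intro y hy z hz s t hs ht hst
    simp only [Set.mem_ofPred_eq] at hy hz ⊢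
    rw [map_add, map_smul, map_smul, smul_eq_mul, smul_eq_mul]
    have h1 := mul_le_mul_of_nonneg_left hy hs
    have h2 := mul_le_mul_of_nonneg_left hz ht
    have h3 : P.toLinearMap a (d b) = s * P.toLinearMap a (d b) + t * P.toLinearMap a (d b) := by
      rw [← add_mul, hst, one_mul]
    linarith
  have hsub : Set.range d ⊆ {y : N | P.toLinearMap a (d b) ≤ P.toLinearMap a y} := by
    rintro _ ⟨c, rfl⟩
    exact le_of_mem_closedChamber hd b c ha
  exact convexHull_min hsub hconv hy

theorem dualSolid_subset_solid (F : Facet P) : dualSolid d F ⊆ solid d :=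
  convexHull_mono (Set.image_subset_range _ _)

/-- The pairing of `rho F` with a point. -/
theorem pair_rho (F : Facet P) (y : N) :
    P.toLinearMap (Polar.rho F) y = ∑ i ∈ (Set.toFinite F.parab).toFinset, P.root' i y := by
  rw [Polar.rho, map_sum, LinearMap.sum_apply]

theorem pair_rho_le {F G : Facet P} {y : N} (hy : y ∈ F.dualCarrier) :
    P.toLinearMap (Polar.rho G) y ≤ P.toLinearMap (Polar.rho F) y ∧
      (P.toLinearMap (Polar.rho G) y = P.toLinearMap (Polar.rho F) y → G ≤ F) := by
  classical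
  let := Fintype.ofFinite ι
  have hs := Polar.mem_dualCarrier_iff.1 hy
  rw [pair_rho, pair_rho]
  set A := (Set.toFinite G.parab).toFinset with hA
  set B := (Set.toFinite F.parab).toFinset with hB
  have hmA : ∀ i, i ∈ A ↔ G.sgn i ≠ -1 := fun i => by rw [hA, Set.Finite.mem_toFinset]; rfl
  have hmB : ∀ i, i ∈ B ↔ F.sgn i ≠ -1 := fun i => by rw [hB, Set.Finite.mem_toFinset]; rfl
  have hnn : ∀ i, i ∈ B ↔ 0 ≤ P.root' i y := by
    intro i
    rw [hmB, ← hs i, ← not_lt, not_iff_not, sign_eq_neg_one_iff]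
  -- both sums written over the whole of ι
  have e1 : ∑ i ∈ A, P.root' i y = ∑ i, if i ∈ A then P.root' i y else 0 := by
    rw [Finset.sum_ite_mem, Finset.univ_inter]
  have e2 : ∑ i ∈ B, P.root' i y = ∑ i, if i ∈ B then P.root' i y else 0 := by
    rw [Finset.sum_ite_mem, Finset.univ_inter]
  have hle : ∀ i, (if i ∈ A then P.root' i y else 0) ≤ if i ∈ B then P.root' i y else 0 := by
    intro i
    by_cases hB' : i ∈ B
    · rw [if_pos hB']
      by_cases hA' : i ∈ A
      · rw [if_pos hA']
      · rw [if_neg hA']; exact (hnn i).1 hB'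
    · rw [if_neg hB']
      have : P.root' i y < 0 := by
        rw [hnn] at hB'; exact not_le.1 hB'
      by_cases hA' : i ∈ A
      · rw [if_pos hA']; exact this.le
      · rw [if_neg hA']
  refine ⟨by rw [e1, e2]; exact Finset.sum_le_sum fun i _ => hle i, fun h => ?_⟩
  rw [e1, e2] at h
  have heq := (Finset.sum_eq_sum_iff_of_le fun i _ => hle i).1 h
  have hsub : ∀ i, G.sgn i ≠ -1 → F.sgn i ≠ -1 := by
    intro i hi
    rw [← hmA] at hi
    rw [← hmB]
    by_contra hB'
    have h1 := heq i (Finset.mem_univ i)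
    rw [if_pos hi, if_neg hB'] at h1
    rw [hnn] at hB'
    exact hB' h1.ge
  rw [K816.Parabolic.le_iff_parab_subset]
  exact fun i hi => hsub i hi

/-- The degree of a facet is at most the pairing of its `rho` with any point of the solid. -/
theorem deg_le (hd : IsCCS d) {G : Facet P} {c : P.Base} (hc : c ∈ G.cham) {y : N}
    (hy : y ∈ solid d) : G.deg d c ≤ P.toLinearMap (Polar.rho G) y := by
  rw [deg_eq]
  exact le_of_mem_solid hd (hc (Polar.rho_mem_carrier G)) hy

theorem greatest_of_special (hd : IsCCS d) {F : Facet P} {b : P.Base} (hb : b ∈ F.cham)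
    (hF : IsSpecial d F) :
    (∀ (G : Facet P) (c : P.Base), c ∈ G.cham → G.deg d c ≤ F.deg d b) ∧
      ∀ (G : Facet P) (c : P.Base), c ∈ G.cham → G.deg d c = F.deg d b → G ≤ F := by
  obtain ⟨y, hy, hy'⟩ := hF
  have hdeg : F.deg d b = P.toLinearMap (Polar.rho F) y := by
    rw [deg_eq]
    exact (pair_eq_of_mem_dualSolid hd hb (rho_mem_span F) hy').symm
  have hys := dualSolid_subset_solid F hy'
  refine ⟨fun G c hc => ?_, fun G c hc h => ?_⟩
  · rw [hdeg]
    exact (deg_le hd hc hys).trans (pair_rho_le hy).1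
  · refine (pair_rho_le (F := F) (G := G) hy).2 (le_antisymm (pair_rho_le hy).1 ?_)
    rw [← hdeg, ← h]
    exact deg_le hd hc hys

theorem special_unique (hd : IsCCS d) {F G : Facet P} (hF : IsSpecial d F)
    (hG : IsSpecial d G) : F = G := by
  obtain ⟨b, hb⟩ := exists_mem_cham F
  obtain ⟨c, hc⟩ := exists_mem_cham G
  have h1 := greatest_of_special hd hb hF
  have h2 := greatest_of_special hd hc hG
  have h3 : G.deg d c = F.deg d b := le_antisymm (h1.1 G c hc) (h2.1 F b hb)
  exact le_antisymm (h2.2 F b hb h3.symm) (h1.2 G c hc h3)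

/-! ### invariant metrics -/

theorem two_mul_metric_coroot (B : LinearMap.BilinForm R N)
    (hBi : ∀ (i : ι) (y z : N), B (P.coreflection i y) (P.coreflection i z) = B y z)
    (i : ι) (z : N) :
    2 * B (P.coroot i) z = P.root' i z * B (P.coroot i) (P.coroot i) := by
  have h := hBi i (P.coroot i) z
  rw [P.coreflection_apply_self, P.coreflection_apply] at h
  change B (- P.coroot i) (z - P.root' i z • P.coroot i) = _ at h
  rw [map_neg, LinearMap.neg_apply, map_sub, map_smul, smul_eq_mul] at h
  linarith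

/-- The vector of `M` representing `B y`. -/
theorem exists_metric_vec (B : LinearMap.BilinForm R N) (hBs : ∀ y z : N, B y z = B z y)
    (hBp : ∀ y : N, y ≠ 0 → 0 < B y y)
    (hBi : ∀ (i : ι) (y z : N), B (P.coreflection i y) (P.coreflection i z) = B y z) (y : N) :
    ∃ a : M, (∀ z, P.toLinearMap a z = B y z) ∧ sgnVec P a = cosgnVec P y := by
  have hker : P.toLinearMap (P.toPerfPair.symm (B y)) = B y :=
    P.toLinearMap.apply_symm_toPerfPair_self _
  refine ⟨P.toPerfPair.symm (B y), fun z => by rw [hker], ?_⟩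
  funext i
  have h1 : P.coroot' i (P.toPerfPair.symm (B y)) = B (P.coroot i) y := by
    change P.toLinearMap (P.toPerfPair.symm (B y)) (P.coroot i) = _
    rw [hker, hBs]
  have h2 := two_mul_metric_coroot B hBi i y
  have h3 : 0 < B (P.coroot i) (P.coroot i) := hBp _ (P.ne_zero' i)
  simp only [sgnVec, cosgnVec]
  rw [h1]
  have h4 : B (P.coroot i) y = (B (P.coroot i) (P.coroot i) / 2) * P.root' i y := by linarith
  rw [h4, sign_mul, sign_pos (half_pos h3), one_mul]

theorem min_of_special (hd : IsCCS d)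
    (B : LinearMap.BilinForm R N) (hBs : ∀ y z : N, B y z = B z y)
    (hBp : ∀ y : N, y ≠ 0 → 0 < B y y)
    (hBi : ∀ (i : ι) (y z : N), B (P.coreflection i y) (P.coreflection i z) = B y z)
    {F : Facet P} (hF : IsSpecial d F) :
    ∃ y₀ : N, yLocus d F = {y₀} ∧ y₀ ∈ solid d ∧ ∀ y ∈ solid d, y ≠ y₀ → B y₀ y₀ < B y y := by
  obtain ⟨y₀, hy, hy'⟩ := hF
  refine ⟨y₀, yLocus_eq_singleton hd (mem_yLocus_of_mem hd hy' (Submodule.subset_span hy)),
    dualSolid_subset_solid F hy', fun y hys hne => ?_⟩
  obtain ⟨b, hb⟩ := exists_mem_cham F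
  obtain ⟨a, ha, has⟩ := exists_metric_vec B hBs hBp hBi y₀
  have haF : a ∈ F.carrier := by
    change sgnVec P a = F.sgn
    rw [has]
    exact hy
  have h1 : P.toLinearMap a y₀ = P.toLinearMap a (d b) :=
    pair_eq_of_mem_dualSolid hd hb (Submodule.subset_span haF) hy'
  have h2 := le_of_mem_solid hd (hb haF) hys
  rw [← h1, ha, ha] at h2
  have h3 := hBp (y - y₀) (sub_ne_zero.2 hne)
  simp only [map_sub, LinearMap.sub_apply] at h3
  rw [hBs y y₀] at h3
  linarith

/-- first order condition at a point of minimal norm of a convex set. -/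
theorem first_order (B : LinearMap.BilinForm R N) (hBs : ∀ y z : N, B y z = B z y)
    {S : Set N} (hS : Convex R S) {y₀ : N} (hy₀ : y₀ ∈ S)
    (hmin : ∀ y ∈ S, B y₀ y₀ ≤ B y y) {y : N} (hy : y ∈ S) : B y₀ y₀ ≤ B y₀ y := by
  by_contra hlt
  push Not at hlt
  set e := B y₀ y₀ - B y₀ y with he
  have hepos : 0 < e := by rw [he]; linarith
  set q := B (y - y₀) (y - y₀) with hq
  -- choose t = min 1 (e / (|q| + 1))
  set t : R := min 1 (e / (|q| + 1)) with ht
  have hq1 : 0 < |q| + 1 := by positivity
  have ht0 : 0 < t := lt_min one_pos (div_pos hepos hq1)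
  have ht1 : t ≤ 1 := min_le_left _ _
  have ht2 : t * (|q| + 1) ≤ e := by
    have := min_le_right (1 : R) (e / (|q| + 1))
    rwa [← ht, le_div_iff₀ hq1] at this
  have hmem : (1 - t) • y₀ + t • y ∈ S := hS hy₀ hy (by linarith) ht0.le (by ring)
  have h1 := hmin _ hmem
  have h2 : (1 - t) • y₀ + t • y = y₀ + t • (y - y₀) := by module
  rw [h2] at h1
  have h3 : B (y₀ + t • (y - y₀)) (y₀ + t • (y - y₀)) =
      B y₀ y₀ + 2 * t * (B y₀ y - B y₀ y₀) + t * t * q := by
    have h3' : B y₀ y - B y₀ y₀ = B y₀ (y - y₀) := by rw [map_sub]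
    rw [h3', hq]
    generalize y - y₀ = z
    simp only [map_add, LinearMap.add_apply, map_smul, LinearMap.smul_apply, smul_eq_mul]
    rw [hBs z y₀]
    ring
  rw [h3] at h1
  have h4 : 0 ≤ 2 * t * (-e) + t * t * q := by
    have : B y₀ y - B y₀ y₀ = -e := by rw [he]; ring
    rw [this] at h1
    linarith
  have h5 : t * q ≤ t * |q| := mul_le_mul_of_nonneg_left (le_abs_self q) ht0.le
  have h6 : t * (2 * e) ≤ t * (t * q) := by nlinarith
  have h7 : 2 * e ≤ t * q := le_of_mul_le_mul_left h6 ht0
  have h8 : t * (|q| + 1) = t * |q| + t := by ring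
  linarith

end K817.Special
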