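import Groth.Agent.RootCh.K816.Solid
import Groth.Agent.RootCh.K817.Special

/-!
# The special facet: existence, minimality, maximal degree
-/

set_option autoImplicit false
set_option linter.unusedSectionVars false
set_option linter.unusedVariables false
universe u v w x

noncomputable section

namespace K817.Final

open RootCh K816.Basics K816.Chambers K816.Corners K816.Gallery K817.Invar K817.Special

variable {ι : Type u} {R : Type v} {M : Type w} {N : Type x}
variable [Field R] [LinearOrder R] [IsStrictOrderedRing R]
variable [AddCommGroup M] [Module R M] [AddCommGroup N] [Module R N] [Finite ι]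
variable {P : RootPairing ι R M N} [P.IsRootSystem] [P.IsCrystallographic] [P.IsReduced]
variable {d : P.Base → N}

/-- A point of the solid with the right value at one vector of the facet lies in its dual solid. -/
theorem mem_dualSolid_of_pair_eq (hd : IsCCS d) {F : Facet P} {b : P.Base} (hb : b ∈ F.cham)
    {a : M} (ha : a ∈ F.carrier) {y : N} (hy : y ∈ solid d)
    (h : P.toLinearMap a y ≤ P.toLinearMap a (d b)) : y ∈ dualSolid d F := by
  classical
  rw [K816.Solid.dualSolid_eq hd]
  have hs := (K816.Solid.mem_solid_iff hd y).1 hy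
  refine ⟨?_, ?_⟩
  · -- the hyperplanes of the corners
    have ha' := (K816.Combos.mem_carrier_iff_coroot' hb a).1 ha
    rw [pairing_eq_sum b a y, pairing_eq_sum b a (d b)] at h
    have hle : ∀ k ∈ (Finset.univ : Finset b.support),
        P.coroot' k a * P.toLinearMap (fundWeight b k) (d b) ≤
          P.coroot' k a * P.toLinearMap (fundWeight b k) y := by
      intro k _
      refine mul_le_mul_of_nonneg_left (hs b k) ?_
      by_cases hk : F.sgn k = 0
      · rw [(ha' k).1 hk]
      · exact ((ha' k).2 hk).le
    have heq := (Finset.sum_eq_sum_iff_of_le hle).1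
      (le_antisymm (Finset.sum_le_sum hle) h)
    rw [Set.mem_iInter₂]
    intro m hm
    rw [mem_hyper_iff hd hb hm]
    rw [corners_eq hb] at hm
    obtain ⟨k, hk, rfl⟩ := hm
    exact (mul_left_cancel₀ ((ha' k).2 hk).ne' (heq k (Finset.mem_univ _))).symm
  · rw [Set.mem_iInter₂]
    intro m hm c hc
    rw [baseCorners_eq] at hc
    obtain ⟨k, rfl⟩ := hc
    exact hs c k

theorem special_of_min (hd : IsCCS d)
    (B : LinearMap.BilinForm R N) (hBs : ∀ y z : N, B y z = B z y)
    (hBp : ∀ y : N, y ≠ 0 → 0 < B y y)
    (hBi : ∀ (i : ι) (y z : N), B (P.coreflection i y) (P.coreflection i z) = B y z)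
    {y₀ : N} (hy₀ : y₀ ∈ solid d) (hmin : ∀ y ∈ solid d, B y₀ y₀ ≤ B y y)
    {F : Facet P} (hF : y₀ ∈ F.dualCarrier) :
    IsSpecial d F ∧ yLocus d F = {y₀} := by
  obtain ⟨b, hb⟩ := exists_mem_cham F
  obtain ⟨a, ha, has⟩ := exists_metric_vec B hBs hBp hBi y₀
  have haF : a ∈ F.carrier := by
    change sgnVec P a = F.sgn
    rw [has]
    exact hF
  have h1 : P.toLinearMap a y₀ ≤ P.toLinearMap a (d b) := by
    rw [ha, ha]
    exact first_order B hBs (convex_convexHull R _) hy₀ hmin
      (subset_convexHull R _ ⟨b, rfl⟩)
  have h2 := mem_dualSolid_of_pair_eq hd hb haF hy₀ h1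
  exact ⟨⟨y₀, hF, h2⟩, yLocus_eq_singleton hd
    (mem_yLocus_of_mem hd h2 (Submodule.subset_span hF))⟩

/-! ### the point of a facet -/

theorem exists_mem_yLocus (hd : IsCCS d) (F : Facet P) : ∃ y : N, y ∈ yLocus d F := by
  obtain ⟨b, hb⟩ := exists_mem_cham F
  have hfin : Module.Finite R M := Module.Finite.of_basis b.toWeightBasis
  let V := Submodule.span R F.carrier
  let T : V →ₗ[R] Module.Dual R V :=
    V.subtype.dualMap ∘ₗ P.toLinearMap.flip ∘ₗ (Polar.phi P : M →ₗ[R] N) ∘ₗ V.subtype
  have hT : ∀ v w : V, T v w = P.toLinearMap w (Polar.phi P v) := fun v w => rfl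
  have hinj : Function.Injective T := by
    rw [← LinearMap.ker_eq_bot, LinearMap.ker_eq_bot']
    intro v hv
    by_contra hne
    have hne' : (v : M) ≠ 0 := fun h => hne (Subtype.ext h)
    have h1 := hT v v
    rw [hv, LinearMap.zero_apply] at h1
    exact (Polar.pair_phi_self_pos P hne').ne h1
  have hsurj : Function.Surjective T :=
    (LinearMap.injective_iff_surjective_of_finrank_eq_finrank
      (Subspace.dual_finrank_eq (K := R) (V := V)).symm).1 hinj
  obtain ⟨v, hv⟩ := hsurj (V.subtype.dualMap (P.toLinearMap.flip (d b)))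
  refine ⟨Polar.phi P v, (mem_yLocus_iff hd hb _).2 ⟨fun a ha => ?_, ?_⟩⟩
  · have h1 := hT v ⟨a, ha⟩
    rw [hv] at h1
    exact h1.symm
  · rw [Polar.span_dualCarrier_eq_map]
    exact ⟨v, v.2, rfl⟩

/-! ### maximal degree -/

theorem sum_parab_sub {F G : Facet P} (h : G ≤ F) (y : N) :
    P.toLinearMap (Polar.rho F) y - P.toLinearMap (Polar.rho G) y =
      ∑ i ∈ (Set.toFinite F.parab).toFinset.filter (fun i => G.sgn i = -1), P.root' i y := by
  classical
  rw [pair_rho, pair_rho, ← Finset.sum_filter_add_sum_filter_not
    (Set.toFinite F.parab).toFinset (fun i => G.sgn i = -1)]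
  have : (Set.toFinite F.parab).toFinset.filter (fun i => ¬ G.sgn i = -1) =
      (Set.toFinite G.parab).toFinset := by
    ext i
    rw [Finset.mem_filter, Set.Finite.mem_toFinset, Set.Finite.mem_toFinset]
    change (F.sgn i ≠ -1 ∧ G.sgn i ≠ -1) ↔ G.sgn i ≠ -1
    refine ⟨fun h => h.2, fun hG => ⟨?_, hG⟩⟩
    rcases h i with h' | h'
    · rw [h']; decide
    · rw [h']; exact hG
  rw [this]
  ring

theorem sgn_eq_zero_of_le {F G : Facet P} (h : G ≤ F) {i : ι} (hF : F.sgn i ≠ -1)
    (hG : G.sgn i = -1) : F.sgn i = 0 := by
  rcases h i with h' | h'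
  · exact h'
  · rw [hG] at h'; exact absurd h' hF

theorem facetOf_sgn_self {F : Facet P} {b : P.Base} (hb : b ∈ F.cham) (k : b.support)
    (hk : F.sgn k ≠ 0) : F.sgn k = 1 := by
  have := (mem_cham_iff F b).1 hb k k.2
  rcases signType_zero_or_one this with h' | h'
  · exact absurd h' hk
  · exact h'

/-- Comparison of facets adjacent to a common base through the simple roots. -/
theorem le_of_simple {F G : Facet P} {b : P.Base} (hF : b ∈ F.cham) (hG : b ∈ G.cham)
    (h : ∀ k ∈ b.support, F.sgn k ≠ 0 → G.sgn k ≠ 0) : G ≤ F := by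
  obtain ⟨e, he⟩ := Polar.carrier_nonempty F
  obtain ⟨g, hg⟩ := Polar.carrier_nonempty G
  intro i
  have h1 := sgnVec_zero_or_eq (b := b) (ξ := g) (η := e) (hG hg) (hF he) (fun k hk hk0 => by
    rw [← sgnVec_eq_zero_iff] at hk0 ⊢
    rw [show sgnVec P g = G.sgn from hg] at hk0
    rw [show sgnVec P e = F.sgn from he]
    by_contra hne
    exact h k hk hne hk0) i
  rwa [show sgnVec P g = G.sgn from hg, show sgnVec P e = F.sgn from he] at h1

theorem special_of_maximal (hd : IsCCS d) {F : Facet P} {b : P.Base} (hb : b ∈ F.cham)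
    (hmax : ∀ (G : Facet P) (c : P.Base), c ∈ G.cham → G.deg d c ≤ F.deg d b)
    (hmaxl : ∀ (G : Facet P) (c : P.Base), c ∈ G.cham → G.deg d c = F.deg d b → F ≤ G → G = F) :
    IsSpecial d F := by
  classical
  obtain ⟨y, hy⟩ := exists_mem_yLocus hd F
  have hyb := (mem_yLocus_iff hd hb y).1 hy
  have hyN := (Polar.mem_span_dualCarrier_iff F y).1 hyb.2
  refine ⟨y, ?_, ?_⟩
  · -- `y` lies in the dual facet
    refine mem_dualCarrier_of_pos hb hyb.2 fun k hk hk0 => ?_
    let I : Finset b.support := Finset.univ.filter fun l : b.support => F.sgn l ≠ 0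
    let G := facetOf b (I.erase ⟨k, hk⟩)
    have hbG : b ∈ G.cham := mem_cham_facetOf b _
    have hGs : ∀ l : b.support, G.sgn l = if l ∈ I.erase ⟨k, hk⟩ then 1 else 0 := fun l =>
      facetOf_sgn b _ l
    have hGk : G.sgn k = 0 := by
      have := hGs ⟨k, hk⟩
      rwa [if_neg (Finset.notMem_erase _ _)] at this
    have hFG : F ≤ G := by
      refine le_of_simple hbG hb fun l hl hl0 => ?_
      have := hGs ⟨l, hl⟩
      rw [this] at hl0
      have hmem : (⟨l, hl⟩ : b.support) ∈ I.erase ⟨k, hk⟩ := by
        by_contra hn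
        rw [if_neg hn] at hl0
        exact hl0 rfl
      exact (Finset.mem_filter.1 (Finset.mem_erase.1 hmem).2).2
    have hlt : G.deg d b < F.deg d b := by
      refine lt_of_le_of_ne (hmax G b hbG) fun heq => ?_
      have := hmaxl G b hbG heq hFG
      rw [this] at hGk
      exact hk0 hGk
    rw [deg_eq, deg_eq] at hlt
    have hGspan : Polar.rho G ∈ Submodule.span R F.carrier := by
      rw [Polar.mem_span_carrier_iff]
      intro i hi
      rcases hFG i with h' | h'
      · have := Polar.mem_carrier_iff.1 (Polar.rho_mem_carrier G) i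
        rw [h'] at this
        exact sign_eq_zero_iff.1 this
      · have := Polar.mem_carrier_iff.1 (Polar.rho_mem_carrier G) i
        rw [h', hi] at this
        exact sign_eq_zero_iff.1 this
    rw [← hyb.1 _ (rho_mem_span F), ← hyb.1 _ hGspan] at hlt
    have hsum := sum_parab_sub hFG y
    by_contra hle
    push Not at hle
    have h1 : 0 ≤ ∑ i ∈ (Set.toFinite G.parab).toFinset.filter (fun i => F.sgn i = -1),
        P.root' i y := by
      refine Finset.sum_nonneg fun i hi => ?_
      rw [Finset.mem_filter, Set.Finite.mem_toFinset] at hi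
      have hG0 := sgn_eq_zero_of_le hFG hi.1 hi.2
      -- `i` is a negative root, a combination of the simple roots killed by `G`
      have hneg : ¬ b.IsPos i := fun hpos => (mem_cham_iff_isPos F b).1 hb i hpos hi.2
      rw [← isPos_neg_index] at hneg
      have hval : P.root' (P.reflectionPerm i i) y ≤ 0 := by
        change P.toLinearMap (P.root (P.reflectionPerm i i)) y ≤ 0
        rw [pairing_eq_sum' b]
        refine Finset.sum_nonpos fun l _ => ?_
        obtain ⟨n, hn⟩ := exists_nat_root'_fundCoweight b hneg l
        change P.root' l y * P.root' _ (fundCoweight b l) ≤ 0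
        rw [hn]
        by_cases hlk : l = ⟨k, hk⟩
        · subst hlk
          exact mul_nonpos_of_nonpos_of_nonneg hle (Nat.cast_nonneg n)
        · by_cases hl0 : F.sgn l = 0
          · rw [hyN l hl0, zero_mul]
          · -- then `G.sgn l = 1` and the coefficient of `l` vanishes
            have hmem : l ∈ I.erase ⟨k, hk⟩ :=
              Finset.mem_erase.2 ⟨hlk, Finset.mem_filter.2 ⟨Finset.mem_univ _, hl0⟩⟩
            have hGl : G.sgn l = 1 := by rw [hGs l, if_pos hmem]
            have hzero : P.root' (P.reflectionPerm i i) (fundCoweight b l) = 0 := by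
              have hGi : G.sgn (P.reflectionPerm i i) = 0 := by
                rw [facet_sgn_neg_index, hG0]; rfl
              have hcor : fundWeight b l ∈ G.corners :=
                (fundWeight_mem_corners_iff hbG l).2 (by rw [hGl]; decide)
              exact root'_eq_zero_of_corr hcor (corr_fundWeight b l) hGi
            rw [hzero] at hn
            rw [← hn, mul_zero]
      rw [root'_neg_index] at hval
      linarith
    linarith
  · -- `y` lies in the dual solid
    rw [K816.Solid.dualSolid_eq hd]
    refine ⟨hy.1, ?_⟩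
    rw [Set.mem_iInter₂]
    intro m hm c' hc'
    rw [mem_corners'_iff] at hm
    obtain ⟨c, hc, k, rfl⟩ := hm
    have hcc' : P.toLinearMap (fundWeight c k) (d c') = P.toLinearMap (fundWeight c k) (d c) :=
      hd.corner_eq _ _ _ hc' (fundWeight_mem_baseCorners c k)
    rw [hcc']
    have hyc := (mem_yLocus_iff hd hc y).1 hy
    by_cases hk0 : F.sgn k = 0
    · let I : Finset c.support := Finset.univ.filter fun l : c.support => F.sgn l ≠ 0
      let G := facetOf c (insert k I)
      have hcG : c ∈ G.cham := mem_cham_facetOf c _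
      have hGs : ∀ l : c.support, G.sgn l = if l ∈ insert k I then 1 else 0 := fun l =>
        facetOf_sgn c _ l
      have hGk : G.sgn k = 1 := by
        rw [hGs k, if_pos (Finset.mem_insert_self _ _)]
      have hGF : G ≤ F := by
        refine le_of_simple hc hcG fun l hl hl0 => ?_
        have hmem : (⟨l, hl⟩ : c.support) ∈ insert k I :=
          Finset.mem_insert_of_mem (Finset.mem_filter.2 ⟨Finset.mem_univ _, hl0⟩)
        have := hGs ⟨l, hl⟩
        rw [if_pos hmem] at this
        change G.sgn l ≠ 0
        rw [this]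
        decide
      have hdeg : G.deg d c ≤ F.deg d c := by
        rw [deg_eq_deg hd F hc hb]
        exact hmax G c hcG
      rw [deg_eq, deg_eq] at hdeg
      have hy0 : P.toLinearMap (Polar.rho F) y - P.toLinearMap (Polar.rho G) y = 0 := by
        rw [sum_parab_sub hGF]
        refine Finset.sum_eq_zero fun i hi => ?_
        rw [Finset.mem_filter, Set.Finite.mem_toFinset] at hi
        exact hyN i (sgn_eq_zero_of_le hGF hi.1 hi.2)
      -- write `rho G - rho F = a • m + v`
      set a : R := P.coroot' k (Polar.rho G) with ha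
      have hapos : 0 < a := by
        have := Polar.mem_carrier_iff.1 (Polar.rho_mem_carrier G) k
        rw [hGk] at this
        exact sign_eq_one_iff.1 this
      have hv : Polar.rho G - Polar.rho F - a • fundWeight c k ∈
          Submodule.span R F.carrier := by
        rw [K816.Combos.span_carrier_eq, K816.Combos.mem_span_corners_iff hc]
        intro l hl hl0
        have hFl : P.coroot' l (Polar.rho F) = 0 := by
          have := Polar.mem_carrier_iff.1 (Polar.rho_mem_carrier F) l
          rw [hl0] at this
          exact sign_eq_zero_iff.1 this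
        rw [map_sub, map_sub, map_smul, hFl, sub_zero, smul_eq_mul]
        by_cases hlk : (⟨l, hl⟩ : c.support) = k
        · subst hlk
          rw [show P.coroot' l (fundWeight c ⟨l, hl⟩) = 1 from coroot'_fundWeight_self c ⟨l, hl⟩,
            mul_one, ha, sub_self]
        · rw [show P.coroot' l (fundWeight c k) = 0 from coroot'_fundWeight_of_ne c k ⟨l, hl⟩ hlk,
            mul_zero, sub_zero]
          have hGl : G.sgn l = 0 := by
            have := hGs ⟨l, hl⟩
            rwa [if_neg] at this
            rw [Finset.mem_insert, Finset.mem_filter]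
            rintro (h' | h')
            · exact hlk h'
            · exact h'.2 hl0
          have := Polar.mem_carrier_iff.1 (Polar.rho_mem_carrier G) l
          rw [hGl] at this
          exact sign_eq_zero_iff.1 this
      have hv' := hyc.1 _ hv
      simp only [map_sub, map_smul, LinearMap.sub_apply, LinearMap.smul_apply, smul_eq_mul] at hv'
      have h3 : a * P.toLinearMap (fundWeight c k) (d c) ≤
          a * P.toLinearMap (fundWeight c k) y := by linarith
      exact le_of_mul_le_mul_left h3 hapos
    · have hcor : fundWeight c k ∈ F.corners := (fundWeight_mem_corners_iff hc k).2 hk0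
      exact (hyc.1 _ (corners_subset_span F hcor)).ge

theorem finite_facet : Finite (Facet P) :=
  Finite.of_injective (fun F : Facet P => F.sgn) fun F G h => Facet.ext h

theorem exists_special (hd : IsCCS d) : ∃ F : Facet P, IsSpecial d F := by
  classical
  have := finite_facet (P := P)
  let dg : Facet P → R := fun F => F.deg d (exists_mem_cham F).choose
  have hdg : ∀ (F : Facet P) (c : P.Base), c ∈ F.cham → F.deg d c = dg F := fun F c hc =>
    deg_eq_deg hd F hc (exists_mem_cham F).choose_spec
  have : Nonempty (Facet P) := ⟨Facet.origin P⟩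
  obtain ⟨F₀, hF₀⟩ := Finite.exists_max dg
  obtain ⟨F, hF⟩ := (Set.toFinite {F : Facet P | dg F = dg F₀}).exists_maximal ⟨F₀, rfl⟩
  refine ⟨F, special_of_maximal hd (exists_mem_cham F).choose_spec ?_ ?_⟩
  · intro G c hc
    rw [hdg G c hc]
    change dg G ≤ dg F
    rw [show dg F = dg F₀ from hF.1]
    exact hF₀ G
  · intro G c hc h hle
    rw [hdg G c hc] at h
    have h1 : dg G = dg F₀ := h.trans hF.1
    exact le_antisymm (hF.2 h1 hle) hle

end K817.Final
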