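import Groth.Prelude.Def_RootCh2
import Mathlib.LinearAlgebra.RootSystem.BaseExists
import Mathlib.Data.Sign.Basic

/-!
# The polarization of a root system over an ordered field and facets

`K817.Polar.phi P : M ≃ₗ[R] N` is the polarization, it matches the sign vectors of `M` (against
coroots) with those of `N` (against roots).  Elementary facts about facets, their spans, the dual
facet, closures, and the sum of the roots of a parabolic set (which lies in the facet).
-/

set_option autoImplicit false
set_option linter.unusedSectionVars false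
set_option linter.unusedVariables false
universe u v w x

noncomputable section

namespace K817.Polar

open RootCh

variable {ι : Type u} {R : Type v} {M : Type w} {N : Type x}
variable [Field R] [LinearOrder R] [IsStrictOrderedRing R]
variable [AddCommGroup M] [Module R M] [AddCommGroup N] [Module R N] [Finite ι]
variable (P : RootPairing ι R M N)

section Phi

variable [P.IsRootSystem]

/-- The polarization of a root system. -/
def phi : M ≃ₗ[R] N :=
  letI := Fintype.ofFinite ι
  P.PolarizationEquiv

theorem pair_phi_comm (a b : M) : P.toLinearMap a (phi P b) = P.toLinearMap b (phi P a) := by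
  let := Fintype.ofFinite ι
  change P.toLinearMap a (P.PolarizationEquiv b) = P.toLinearMap b (P.PolarizationEquiv a)
  rw [P.polarizationEquiv_apply, P.polarizationEquiv_apply,
    P.toLinearMap_apply_apply_Polarization, P.toLinearMap_apply_apply_Polarization,
    P.rootForm_apply_apply, P.rootForm_apply_apply]
  simp_rw [mul_comm]

theorem pair_phi_self_pos {a : M} (ha : a ≠ 0) : 0 < P.toLinearMap a (phi P a) := by
  let := Fintype.ofFinite ι
  change 0 < P.toLinearMap a (P.PolarizationEquiv a)
  rw [P.polarizationEquiv_apply, P.toLinearMap_apply_apply_Polarization]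
  exact P.rootForm_pos_of_ne_zero (by simp) ha

/-- half the square length of a root. -/
def hl (i : ι) : R :=
  letI := Fintype.ofFinite ι
  P.RootForm (P.root i) (P.root i) / 2

theorem hl_pos (i : ι) : 0 < hl P i := by
  let := Fintype.ofFinite ι
  have : 0 < P.RootForm (P.root i) (P.root i) :=
    P.rootForm_pos_of_ne_zero (by simp) (P.ne_zero i)
  exact half_pos this

theorem phi_root (i : ι) : phi P (P.root i) = hl P i • P.coroot i := by
  let := Fintype.ofFinite ι
  change P.PolarizationEquiv (P.root i) = (P.RootForm (P.root i) (P.root i) / 2) • P.coroot i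
  rw [P.polarizationEquiv_apply, div_eq_inv_mul, mul_smul, P.rootForm_self_smul_coroot,
    ← Nat.cast_smul_eq_nsmul R, smul_smul]
  simp

theorem root'_phi (i : ι) (a : M) : P.root' i (phi P a) = hl P i * P.coroot' i a := by
  change P.toLinearMap (P.root i) (phi P a) = hl P i * P.toLinearMap a (P.coroot i)
  rw [pair_phi_comm, phi_root, map_smul, smul_eq_mul]

theorem cosgnVec_phi (a : M) : cosgnVec P (phi P a) = sgnVec P a := by
  funext i
  simp only [cosgnVec, sgnVec]
  rw [root'_phi, sign_mul, sign_pos (hl_pos P i), one_mul]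

variable {P}

theorem phi_mem_dualCarrier {F : Facet P} {a : M} : phi P a ∈ F.dualCarrier ↔ a ∈ F.carrier := by
  simp only [Facet.dualCarrier, Facet.carrier, Set.mem_ofPred_eq, cosgnVec_phi]

theorem phi_mem_dualClosure {F : Facet P} {a : M} : phi P a ∈ F.dualClosure ↔ a ∈ F.closure := by
  simp only [Facet.dualClosure, Facet.closure, Set.mem_ofPred_eq, cosgnVec_phi]

end Phi

variable {P}

theorem carrier_nonempty (F : Facet P) : F.carrier.Nonempty := F.exists_sgnVec_eq

theorem dualCarrier_nonempty [P.IsRootSystem] (F : Facet P) : F.dualCarrier.Nonempty := by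
  obtain ⟨a, ha⟩ := carrier_nonempty F
  exact ⟨phi P a, phi_mem_dualCarrier.2 ha⟩

theorem mem_carrier_iff {F : Facet P} {a : M} :
    a ∈ F.carrier ↔ ∀ i, SignType.sign (P.coroot' i a) = F.sgn i := by
  simp only [Facet.carrier, Set.mem_ofPred_eq, funext_iff, sgnVec]

theorem mem_dualCarrier_iff {F : Facet P} {y : N} :
    y ∈ F.dualCarrier ↔ ∀ i, SignType.sign (P.root' i y) = F.sgn i := by
  simp only [Facet.dualCarrier, Set.mem_ofPred_eq, funext_iff, cosgnVec]

theorem carrier_subset_closure (F : Facet P) : F.carrier ⊆ F.closure := fun a ha i =>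
  Or.inr (mem_carrier_iff.1 ha i)

/-- Adding a large positive multiple of a vector of a facet. -/
theorem exists_pos_sign_add_smul {F : Facet P} {e : M} (he : e ∈ F.carrier) (a : M) :
    ∃ t : R, 0 < t ∧ ∀ i, F.sgn i ≠ 0 → SignType.sign (P.coroot' i (a + t • e)) = F.sgn i := by
  classical
  let := Fintype.ofFinite ι
  let t : R := 1 + ∑ i, |P.coroot' i a| * |P.coroot' i e|⁻¹
  have hnn : ∀ i, 0 ≤ |P.coroot' i a| * |P.coroot' i e|⁻¹ := fun i => by positivity
  have ht : 0 < t := by
    have : 0 ≤ ∑ i, |P.coroot' i a| * |P.coroot' i e|⁻¹ := Finset.sum_nonneg fun i _ => hnn i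
    have h1 : (0 : R) < 1 := zero_lt_one
    linarith
  refine ⟨t, ht, fun i hi => ?_⟩
  have hs := mem_carrier_iff.1 he i
  have hne : P.coroot' i e ≠ 0 := by
    intro h
    rw [h, sign_zero] at hs
    exact hi hs.symm
  have hlt : |P.coroot' i a| < t * |P.coroot' i e| := by
    have h1 : |P.coroot' i a| * |P.coroot' i e|⁻¹ ≤ ∑ i, |P.coroot' i a| * |P.coroot' i e|⁻¹ :=
      Finset.single_le_sum (f := fun i => |P.coroot' i a| * |P.coroot' i e|⁻¹)
        (fun i _ => hnn i) (Finset.mem_univ i)
    have h2 : 0 < |P.coroot' i e| := abs_pos.2 hne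
    have h3 : |P.coroot' i a| * |P.coroot' i e|⁻¹ < t := by
      have h0 : (0 : R) < 1 := zero_lt_one
      change _ < 1 + ∑ i, |P.coroot' i a| * |P.coroot' i e|⁻¹
      linarith
    have h4 := mul_lt_mul_of_pos_right h3 h2
    rwa [mul_assoc, inv_mul_cancel₀ h2.ne', mul_one] at h4
  rw [map_add, map_smul, smul_eq_mul, ← hs]
  rcases lt_trichotomy (P.coroot' i e) 0 with h | h | h
  · rw [sign_neg h, sign_neg]
    rw [abs_of_neg h] at hlt
    have := le_abs_self (P.coroot' i a)
    linarith
  · exact absurd h hne
  · rw [sign_pos h, sign_pos]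
    rw [abs_of_pos h] at hlt
    have := neg_abs_le (P.coroot' i a)
    linarith

theorem mem_span_carrier_iff (F : Facet P) (a : M) :
    a ∈ Submodule.span R F.carrier ↔ ∀ i, F.sgn i = 0 → P.coroot' i a = 0 := by
  constructor
  · intro ha i hi
    have : Submodule.span R F.carrier ≤ LinearMap.ker (P.coroot' i) := by
      rw [Submodule.span_le]
      intro b hb
      have := mem_carrier_iff.1 hb i
      rw [hi, sign_eq_zero_iff] at this
      exact this
    exact this ha
  · intro h
    obtain ⟨e, he⟩ := carrier_nonempty F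
    obtain ⟨t, ht, hs⟩ := exists_pos_sign_add_smul he a
    have h1 : a + t • e ∈ F.carrier := by
      rw [mem_carrier_iff]
      intro i
      by_cases hi : F.sgn i = 0
      · have he0 : P.coroot' i e = 0 := by
          have := mem_carrier_iff.1 he i
          rwa [hi, sign_eq_zero_iff] at this
        rw [map_add, map_smul, h i hi, he0, hi]
        simp
      · exact hs i hi
    have h2 : a = (a + t • e) - t • e := by abel
    rw [h2]
    exact Submodule.sub_mem _ (Submodule.subset_span h1)
      (Submodule.smul_mem _ _ (Submodule.subset_span he))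

theorem span_dualCarrier_eq_map [P.IsRootSystem] (F : Facet P) :
    Submodule.span R F.dualCarrier =
      (Submodule.span R F.carrier).map (phi P : M →ₗ[R] N) := by
  rw [← Submodule.span_image]
  congr 1
  ext y
  constructor
  · intro hy
    refine ⟨(phi P).symm y, ?_, by simp⟩
    rw [← phi_mem_dualCarrier]
    simpa using hy
  · rintro ⟨a, ha, rfl⟩
    exact phi_mem_dualCarrier.2 ha

theorem mem_span_dualCarrier_iff [P.IsRootSystem] (F : Facet P) (y : N) :
    y ∈ Submodule.span R F.dualCarrier ↔ ∀ i, F.sgn i = 0 → P.root' i y = 0 := by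
  rw [span_dualCarrier_eq_map]
  constructor
  · rintro ⟨a, ha, rfl⟩ i hi
    have := (mem_span_carrier_iff F a).1 ha i hi
    change P.root' i (phi P a) = 0
    rw [root'_phi, this, mul_zero]
  · intro h
    refine ⟨(phi P).symm y, ?_, by simp⟩
    change (phi P).symm y ∈ Submodule.span R F.carrier
    rw [mem_span_carrier_iff]
    intro i hi
    have h1 := h i hi
    have h2 := root'_phi P i ((phi P).symm y)
    rw [LinearEquiv.apply_symm_apply, h1] at h2
    rcases mul_eq_zero.1 h2.symm with h3 | h3
    · exact absurd h3 (hl_pos P i).ne'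
    · exact h3

/-- The pairing between `span F` and the span of the dual facet is perfect (injectivity). -/
theorem eq_of_pair_eq [P.IsRootSystem] (F : Facet P) {y y' : N}
    (hy : y ∈ Submodule.span R F.dualCarrier) (hy' : y' ∈ Submodule.span R F.dualCarrier)
    (h : ∀ a ∈ Submodule.span R F.carrier, P.toLinearMap a y = P.toLinearMap a y') : y = y' := by
  rw [← sub_eq_zero]
  have h1 := Submodule.sub_mem _ hy hy'
  rw [span_dualCarrier_eq_map] at h1
  obtain ⟨a, ha, hay⟩ := h1
  change phi P a = y - y' at hay
  have h2 : P.toLinearMap a (phi P a) = 0 := by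
    rw [hay, map_sub, h a ha, sub_self]
  by_contra hne
  have ha0 : a ≠ 0 := by
    rintro rfl
    rw [map_zero] at hay
    exact hne hay.symm
  exact (pair_phi_self_pos P ha0).ne' h2

section Rho

theorem sum_coroot'_eq_zero_of_mapsTo [P.IsRootSystem] (i : ι) (S : Finset ι)
    (hS : ∀ j ∈ S, P.reflectionPerm i j ∈ S) : P.coroot' i (∑ j ∈ S, P.root j) = 0 := by
  have h1 : ∑ j ∈ S, P.root j = ∑ j ∈ S, P.root (P.reflectionPerm i j) := by
    refine Finset.sum_nbij' (fun j => P.reflectionPerm i j) (fun j => P.reflectionPerm i j)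
      hS hS ?_ ?_ ?_
    · intro j _; exact P.reflectionPerm_self i j
    · intro j _; exact P.reflectionPerm_self i j
    · intro j _; rw [P.reflectionPerm_self]
  have h2 : P.reflection i (∑ j ∈ S, P.root j) = ∑ j ∈ S, P.root j := by
    rw [map_sum]
    conv_rhs => rw [h1]
    exact Finset.sum_congr rfl fun j _ => (P.root_reflectionPerm i j).symm
  have h3 := P.reflection_apply i (∑ j ∈ S, P.root j)
  rw [h2] at h3
  have h4 : P.coroot' i (∑ j ∈ S, P.root j) • P.root i = 0 := by
    have := sub_eq_self.1 h3.symm
    exact this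
  rcases smul_eq_zero.1 h4 with h | h
  · exact h
  · exact absurd h (P.ne_zero i)

theorem sgn_reflectionPerm_of_eq_zero [P.IsRootSystem] (F : Facet P) {i : ι}
    (hi : F.sgn i = 0) (j : ι) : F.sgn (P.reflectionPerm i j) = F.sgn j := by
  obtain ⟨y, hy⟩ := dualCarrier_nonempty F
  have h := mem_dualCarrier_iff.1 hy
  rw [← h, ← h]
  have h0 : P.root' i y = 0 := by
    have := h i
    rwa [hi, sign_eq_zero_iff] at this
  change SignType.sign (P.toLinearMap (P.root (P.reflectionPerm i j)) y) =
    SignType.sign (P.toLinearMap (P.root j) y)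
  rw [P.root_reflectionPerm, P.reflection_apply, map_sub, map_smul, LinearMap.sub_apply,
    LinearMap.smul_apply]
  change SignType.sign (_ - _ • P.root' i y) = _
  rw [h0, smul_zero, sub_zero]

/-- The sum of the roots of the parabolic set of `F`. -/
def rho (F : Facet P) : M := ∑ i ∈ (Set.toFinite F.parab).toFinset, P.root i

theorem rho_mem_carrier [P.IsRootSystem] (F : Facet P) : rho F ∈ F.carrier := by
  classical
  rw [mem_carrier_iff]
  have hzero : ∀ i, F.sgn i = 0 → P.coroot' i (rho F) = 0 := by
    intro i hi
    refine sum_coroot'_eq_zero_of_mapsTo i _ fun j hj => ?_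
    rw [Set.Finite.mem_toFinset] at hj ⊢
    change F.sgn _ ≠ -1
    rw [sgn_reflectionPerm_of_eq_zero F hi]
    exact hj
  have hneg : ∀ i, F.sgn (P.reflectionPerm i i) = - F.sgn i := by
    intro i
    obtain ⟨y, hy⟩ := dualCarrier_nonempty F
    have h := mem_dualCarrier_iff.1 hy
    rw [← h, ← h]
    change SignType.sign (P.toLinearMap (P.root (P.reflectionPerm i i)) y) =
      - SignType.sign (P.toLinearMap (P.root i) y)
    rw [P.root_reflectionPerm, P.reflection_apply_self, map_neg, LinearMap.neg_apply,
      Left.sign_neg]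
  have hpos : ∀ i, F.sgn i = 1 → 0 < P.coroot' i (rho F) := by
    intro i hi
    obtain ⟨y, hy⟩ := dualCarrier_nonempty F
    have h := mem_dualCarrier_iff.1 hy
    have hiy : 0 < P.root' i y := by
      have := h i
      rwa [hi, sign_eq_one_iff] at this
    have hmem : ∀ j, j ∈ (Set.toFinite F.parab).toFinset ↔ 0 ≤ P.root' j y := by
      intro j
      rw [Set.Finite.mem_toFinset]
      change F.sgn j ≠ -1 ↔ _
      rw [← h j, ← not_lt, not_iff_not, sign_eq_neg_one_iff]
    set S := (Set.toFinite F.parab).toFinset with hSdef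
    have hsplit : rho F = ∑ j ∈ S.filter (fun j => P.reflectionPerm i j ∈ S), P.root j +
        ∑ j ∈ S.filter (fun j => ¬ P.reflectionPerm i j ∈ S), P.root j :=
      (Finset.sum_filter_add_sum_filter_not S _ _).symm
    have h1 : P.coroot' i (∑ j ∈ S.filter (fun j => P.reflectionPerm i j ∈ S), P.root j) = 0 := by
      refine sum_coroot'_eq_zero_of_mapsTo i _ fun j hj => ?_
      rw [Finset.mem_filter] at hj ⊢
      refine ⟨hj.2, ?_⟩
      rw [P.reflectionPerm_self]
      exact hj.1
    rw [hsplit, map_add, h1, zero_add, map_sum]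
    have h2 : ∀ j ∈ S.filter (fun j => ¬ P.reflectionPerm i j ∈ S),
        0 < P.coroot' i (P.root j) := by
      intro j hj
      rw [Finset.mem_filter, hmem, hmem] at hj
      by_contra hle
      push Not at hle
      apply hj.2
      change 0 ≤ P.toLinearMap (P.root (P.reflectionPerm i j)) y
      rw [P.root_reflectionPerm, P.reflection_apply, map_sub, map_smul, LinearMap.sub_apply,
        LinearMap.smul_apply, smul_eq_mul]
      have h3 : 0 ≤ P.toLinearMap (P.root j) y := hj.1
      have h4 : 0 < P.toLinearMap (P.root i) y := hiy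
      nlinarith
    refine Finset.sum_pos h2 ⟨i, ?_⟩
    rw [Finset.mem_filter, hmem, hmem]
    refine ⟨hiy.le, ?_⟩
    change ¬ 0 ≤ P.toLinearMap (P.root (P.reflectionPerm i i)) y
    rw [P.root_reflectionPerm, P.reflection_apply_self, map_neg, LinearMap.neg_apply]
    have h4 : 0 < P.toLinearMap (P.root i) y := hiy
    linarith
  intro i
  rcases hs : F.sgn i with _ | _ | _
  · change _ = (0 : SignType)
    rw [hzero i hs, sign_zero]
  · change _ = (-1 : SignType)
    have h1 : F.sgn (P.reflectionPerm i i) = 1 := by
      rw [hneg, hs]; rfl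
    have h2 := hpos _ h1
    have h3 : P.coroot' (P.reflectionPerm i i) (rho F) = - P.coroot' i (rho F) := by
      change P.toLinearMap (rho F) (P.coroot (P.reflectionPerm i i)) =
        - P.toLinearMap (rho F) (P.coroot i)
      rw [P.coroot_reflectionPerm, P.coreflection_apply_self, map_neg]
    rw [h3] at h2
    rw [sign_neg]
    linarith
  · change _ = (1 : SignType)
    rw [sign_pos (hpos i hs)]

end Rho

end K817.Polar
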