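import Groth.Agent.RootCh.K816.Gallery
import Groth.Agent.RootCh.K817.Polar

/-!
# Complementary convex solids: degrees, numerical invariants, the point of a facet
-/

set_option autoImplicit false
set_option linter.unusedSectionVars false
set_option linter.unusedVariables false
universe u v w x

noncomputable section

namespace K817.Invar

open RootCh K816.Basics K816.Chambers K816.Corners K816.Gallery

variable {ι : Type u} {R : Type v} {M : Type w} {N : Type x}
variable [Field R] [LinearOrder R] [IsStrictOrderedRing R]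
variable [AddCommGroup M] [Module R M] [AddCommGroup N] [Module R N] [Finite ι]
variable {P : RootPairing ι R M N} [P.IsRootSystem] [P.IsCrystallographic] [P.IsReduced]
variable {d : P.Base → N}

theorem pair_eq_of_mem_span (hd : IsCCS d) {F : Facet P} {b b' : P.Base}
    (hb : b ∈ F.cham) (hb' : b' ∈ F.cham) {a : M} (ha : a ∈ Submodule.span R F.carrier) :
    P.toLinearMap a (d b) = P.toLinearMap a (d b') := by
  induction ha using Submodule.span_induction with
  | mem a ha => exact pairing_eq_of_cham hd hb hb' (Polar.carrier_subset_closure F ha)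
  | zero => simp
  | add a a' _ _ h h' => rw [map_add, LinearMap.add_apply, LinearMap.add_apply, h, h']
  | smul c a _ h => rw [map_smul, LinearMap.smul_apply, LinearMap.smul_apply, h]

theorem pair_eq_of_mem_dualSolid (hd : IsCCS d) {F : Facet P} {b : P.Base}
    (hb : b ∈ F.cham) {a : M} (ha : a ∈ Submodule.span R F.carrier) {y : N}
    (hy : y ∈ dualSolid d F) : P.toLinearMap a y = P.toLinearMap a (d b) := by
  have hconv : Convex R {y : N | P.toLinearMap a y = P.toLinearMap a (d b)} := by
    intro y hy z hz s t hs ht hst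
    simp only [Set.mem_ofPred_eq] at hy hz ⊢
    rw [map_add, map_smul, map_smul, hy, hz, ← add_smul, hst, one_smul]
  have hsub : d '' F.cham ⊆ {y : N | P.toLinearMap a y = P.toLinearMap a (d b)} := by
    rintro _ ⟨c, hc, rfl⟩
    exact pair_eq_of_mem_span hd hc hb ha
  exact convexHull_min hsub hconv hy

theorem corners_subset_span (F : Facet P) : F.corners ⊆ Submodule.span R F.carrier := by
  intro m hm
  rw [SetLike.mem_coe, Polar.mem_span_carrier_iff]
  intro i hi
  rcases hm.2 i with h | h
  · exact (sgnVec_eq_zero_iff m i).1 h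
  · rw [hi] at h
    exact (sgnVec_eq_zero_iff m i).1 h

theorem mem_hyper_iff (hd : IsCCS d) {F : Facet P} {b : P.Base} (hb : b ∈ F.cham) {m : M}
    (hm : m ∈ F.corners) (y : N) :
    y ∈ hyper d m ↔ P.toLinearMap m y = P.toLinearMap m (d b) := by
  constructor
  · intro h
    exact h b (corners_subset_baseCorners hb hm)
  · intro h c hc
    rw [h]
    exact hd.corner_eq _ _ _ (corners_subset_baseCorners hb hm) hc

/-- Points with prescribed pairings with the corners have the prescribed pairings with the span. -/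
theorem pair_eq_of_corners {F : Facet P} {y z : N}
    (h : ∀ m ∈ F.corners, P.toLinearMap m y = P.toLinearMap m z) {a : M}
    (ha : a ∈ Submodule.span R F.carrier) : P.toLinearMap a y = P.toLinearMap a z := by
  rw [K816.Combos.span_carrier_eq] at ha
  induction ha using Submodule.span_induction with
  | mem a ha => exact h a ha
  | zero => simp
  | add a a' _ _ h h' => rw [map_add, LinearMap.add_apply, LinearMap.add_apply, h, h']
  | smul c a _ h => rw [map_smul, LinearMap.smul_apply, LinearMap.smul_apply, h]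

theorem mem_yLocus_iff (hd : IsCCS d) {F : Facet P} {b : P.Base} (hb : b ∈ F.cham) (y : N) :
    y ∈ yLocus d F ↔
      (∀ a ∈ Submodule.span R F.carrier, P.toLinearMap a y = P.toLinearMap a (d b)) ∧
        y ∈ Submodule.span R F.dualCarrier := by
  simp only [yLocus, Set.mem_inter_iff, Set.mem_iInter, SetLike.mem_coe]
  refine and_congr_left fun _ => ?_
  constructor
  · intro h a ha
    exact pair_eq_of_corners (fun m hm => (mem_hyper_iff hd hb hm y).1 (h m hm)) ha
  · intro h m hm
    exact (mem_hyper_iff hd hb hm y).2 (h m (corners_subset_span F hm))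

theorem yLocus_eq_singleton (hd : IsCCS d) {F : Facet P} {y : N} (hy : y ∈ yLocus d F) :
    yLocus d F = {y} := by
  obtain ⟨b, hb⟩ := exists_mem_cham F
  ext z
  rw [Set.mem_singleton_iff]
  constructor
  · intro hz
    have h1 := (mem_yLocus_iff hd hb y).1 hy
    have h2 := (mem_yLocus_iff hd hb z).1 hz
    exact Polar.eq_of_pair_eq F h2.2 h1.2 fun a ha => by rw [h1.1 a ha, h2.1 a ha]
  · rintro rfl
    exact hy

theorem mem_yLocus_of_mem (hd : IsCCS d) {F : Facet P} {y : N} (hy : y ∈ dualSolid d F)
    (hy' : y ∈ Submodule.span R F.dualCarrier) : y ∈ yLocus d F := by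
  obtain ⟨b, hb⟩ := exists_mem_cham F
  rw [mem_yLocus_iff hd hb]
  exact ⟨fun a ha => pair_eq_of_mem_dualSolid hd hb ha hy, hy'⟩

/-! ### degrees -/

theorem deg_eq (F : Facet P) (b : P.Base) :
    F.deg d b = P.toLinearMap (Polar.rho F) (d b) := by
  rw [Facet.deg, Polar.rho, map_sum, LinearMap.sum_apply]

theorem rho_mem_span (F : Facet P) : Polar.rho F ∈ Submodule.span R F.carrier :=
  Submodule.subset_span (Polar.rho_mem_carrier F)

theorem deg_eq_deg (hd : IsCCS d) (F : Facet P) {b b' : P.Base} (hb : b ∈ F.cham)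
    (hb' : b' ∈ F.cham) : F.deg d b = F.deg d b' := by
  rw [deg_eq, deg_eq]
  exact pair_eq_of_mem_span hd hb hb' (rho_mem_span F)

/-! ### the elementary sets of roots -/

/-- The sum of the roots of an elementary set. -/
def sig (F : Facet P) (m : M) : M := ∑ i ∈ (Set.toFinite (F.Psi m)).toFinset, P.root i

theorem root'_eq_zero_of_corr {F : Facet P} {m : M} (hm : m ∈ F.corners) {y : N}
    (h : Corr P m y) {i : ι} (hi : F.sgn i = 0) : P.root' i y = 0 := by
  have h1 := K816.Basics.Corr.cosgnVec_eq h
  have h2 : sgnVec P m i = 0 := by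
    rcases hm.2 i with h | h
    · exact h
    · rw [h, hi]
  rw [← h1] at h2
  exact sign_eq_zero_iff.1 h2

theorem root'_reflectionPerm (i j : ι) {y : N} (hy : P.root' i y = 0) :
    P.root' (P.reflectionPerm i j) y = P.root' j y := by
  change P.toLinearMap (P.root (P.reflectionPerm i j)) y = P.toLinearMap (P.root j) y
  rw [P.root_reflectionPerm, P.reflection_apply, map_sub, map_smul, LinearMap.sub_apply,
    LinearMap.smul_apply]
  change _ - _ • P.root' i y = _
  rw [hy, smul_zero, sub_zero]

theorem sig_mem_span (F : Facet P) {m : M} (hm : m ∈ F.corners) :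
    sig F m ∈ Submodule.span R F.carrier := by
  rw [Polar.mem_span_carrier_iff]
  intro i hi
  refine Polar.sum_coroot'_eq_zero_of_mapsTo i _ fun j hj => ?_
  rw [Set.Finite.mem_toFinset] at hj ⊢
  refine ⟨fun y hy => ?_, fun m' hm' hne y hy => ?_⟩
  · rw [root'_reflectionPerm i j (root'_eq_zero_of_corr hm hy hi)]
    exact hj.1 y hy
  · rw [root'_reflectionPerm i j (root'_eq_zero_of_corr hm' hy hi)]
    exact hj.2 m' hm' hne y hy

theorem numInv_eq (F : Facet P) (m : M) (b : P.Base) :
    F.numInv d m b = P.toLinearMap (sig F m) (d b) := by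
  rw [Facet.numInv, sig, map_sum, LinearMap.sum_apply]

theorem numInv_eq_numInv (hd : IsCCS d) (F : Facet P) {m : M} (hm : m ∈ F.corners)
    {b b' : P.Base} (hb : b ∈ F.cham) (hb' : b' ∈ F.cham) :
    F.numInv d m b = F.numInv d m b' := by
  rw [numInv_eq, numInv_eq]
  exact pair_eq_of_mem_span hd hb hb' (sig_mem_span F hm)

/-- A root of `Ψ(F, λ_k)` pairs with the span of the dual facet as the simple root `α_k`. -/
theorem root'_eq_of_mem_Psi {F : Facet P} {b : P.Base} (hb : b ∈ F.cham) (k : b.support)
    (hk : F.sgn k ≠ 0) {i : ι} (hi : i ∈ F.Psi (fundWeight b k)) {y : N}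
    (hy : y ∈ Submodule.span R F.dualCarrier) : P.root' i y = P.root' k y := by
  classical
  change P.toLinearMap (P.root i) y = P.root' k y
  rw [pairing_eq_sum' b, Finset.sum_eq_single k]
  · have := hi.1 _ (corr_fundWeight b k)
    change P.toLinearMap (P.root i) (fundCoweight b k) = 1 at this
    rw [this, mul_one]
  · intro l _ hl
    by_cases hl0 : F.sgn l = 0
    · rw [(Polar.mem_span_dualCarrier_iff F y).1 hy l hl0, zero_mul]
    · have := hi.2 (fundWeight b l) ((fundWeight_mem_corners_iff hb l).2 hl0)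
        (fun h => hl (fundWeight_injective b h)) _ (corr_fundWeight b l)
      change P.toLinearMap (P.root i) (fundCoweight b l) = 0 at this
      rw [this, mul_zero]
  · intro h
    exact absurd (Finset.mem_univ _) h

theorem self_mem_Psi {F : Facet P} {b : P.Base} (hb : b ∈ F.cham) (k : b.support) :
    (k : ι) ∈ F.Psi (fundWeight b k) := by
  refine ⟨fun y hy => ?_, fun m hm hne y hy => ?_⟩
  · rw [corr_fundWeight_iff] at hy
    rw [hy]
    exact root'_fundCoweight_self b k
  · rw [corners_eq hb] at hm
    obtain ⟨l, hl, rfl⟩ := hm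
    rw [corr_fundWeight_iff] at hy
    rw [hy]
    refine root'_fundCoweight_of_ne b l k ?_
    rintro rfl
    exact hne rfl

/-- The numerical invariants compute the pairings of the point of the facet with simple roots. -/
theorem numInv_eq_card_mul (hd : IsCCS d) {F : Facet P} {b c : P.Base} (hb : b ∈ F.cham)
    (hc : c ∈ F.cham) (k : b.support) (hk : F.sgn k ≠ 0) {y : N} (hy : y ∈ yLocus d F) :
    F.numInv d (fundWeight b k) c =
      ((Set.toFinite (F.Psi (fundWeight b k))).toFinset.card : R) * P.root' k y := by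
  have h := (mem_yLocus_iff hd hc y).1 hy
  rw [numInv_eq, ← h.1 _ (sig_mem_span F ((fundWeight_mem_corners_iff hb k).2 hk)), sig, map_sum,
    LinearMap.sum_apply, ← nsmul_eq_mul, ← Finset.sum_const]
  refine Finset.sum_congr rfl fun i hi => ?_
  rw [Set.Finite.mem_toFinset] at hi
  exact root'_eq_of_mem_Psi hb k hk hi h.2

theorem numInv_pos_iff (hd : IsCCS d) {F : Facet P} {b c : P.Base} (hb : b ∈ F.cham)
    (hc : c ∈ F.cham) (k : b.support) (hk : F.sgn k ≠ 0) {y : N} (hy : y ∈ yLocus d F) :
    0 < F.numInv d (fundWeight b k) c ↔ 0 < P.root' k y := by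
  rw [numInv_eq_card_mul hd hb hc k hk hy]
  have : 0 < (Set.toFinite (F.Psi (fundWeight b k))).toFinset.card := by
    rw [Finset.card_pos]
    exact ⟨k, by rw [Set.Finite.mem_toFinset]; exact self_mem_Psi hb k⟩
  exact mul_pos_iff_of_pos_left (by exact_mod_cast this)

/-- Membership in the dual facet of a point of its span, tested on simple roots. -/
theorem mem_dualCarrier_of_pos {F : Facet P} {b : P.Base} (hb : b ∈ F.cham) {y : N}
    (hy : y ∈ Submodule.span R F.dualCarrier)
    (h : ∀ k ∈ b.support, F.sgn k ≠ 0 → 0 < P.root' k y) : y ∈ F.dualCarrier := by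
  rw [← flipFacet_carrier, mem_carrier_iff (mem_flipFacet_cham hb)]
  intro k hk
  change SignType.sign (P.root' k y) = F.sgn k
  by_cases hk0 : F.sgn k = 0
  · rw [(Polar.mem_span_dualCarrier_iff F y).1 hy k hk0, hk0, sign_zero]
  · rw [sign_pos (h k hk hk0)]
    have := (mem_cham_iff F b).1 hb k hk
    rcases signType_zero_or_one this with h' | h'
    · exact absurd h' hk0
    · exact h'.symm

theorem root'_pos_of_mem_dualCarrier {F : Facet P} {b : P.Base} (hb : b ∈ F.cham) {y : N}
    (hy : y ∈ F.dualCarrier) {k : ι} (hk : k ∈ b.support) (hk0 : F.sgn k ≠ 0) :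
    0 < P.root' k y := by
  have h1 := Polar.mem_dualCarrier_iff.1 hy k
  have := (mem_cham_iff F b).1 hb k hk
  rcases signType_zero_or_one this with h' | h'
  · exact absurd h' hk0
  · rw [h'] at h1
    exact sign_eq_one_iff.1 h1

/-- (S1) and (S2) hold together iff the facet is special. -/
theorem special_iff (hd : IsCCS d) (F : Facet P) :
    ((∀ m ∈ F.corners, ∀ b ∈ F.cham, 0 < F.numInv d m b) ∧
        (dualSolid d F ∩ (Submodule.span R F.dualCarrier : Set N)).Nonempty) ↔
      IsSpecial d F := by
  obtain ⟨b, hb⟩ := exists_mem_cham F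
  constructor
  · rintro ⟨h1, y, hy, hy'⟩
    have hyl := mem_yLocus_of_mem hd hy hy'
    refine ⟨y, mem_dualCarrier_of_pos hb hy' fun k hk hk0 => ?_, hy⟩
    rw [← numInv_pos_iff hd hb hb ⟨k, hk⟩ hk0 hyl]
    exact h1 _ ((fundWeight_mem_corners_iff hb ⟨k, hk⟩).2 hk0) b hb
  · rintro ⟨y, hy, hy'⟩
    have hys : y ∈ Submodule.span R F.dualCarrier := Submodule.subset_span hy
    have hyl := mem_yLocus_of_mem hd hy' hys
    refine ⟨fun m hm c hc => ?_, y, hy', hys⟩
    rw [corners_eq hb] at hm
    obtain ⟨k, hk, rfl⟩ := hm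
    rw [numInv_pos_iff hd hb hc k hk hyl]
    exact root'_pos_of_mem_dualCarrier hb hy k.2 hk

theorem special_point (hd : IsCCS d) {F : Facet P} (hF : IsSpecial d F) :
    ∃ y₀ : N, yLocus d F = {y₀} ∧ F.dualCarrier ∩ dualSolid d F = {y₀} := by
  obtain ⟨y, hy, hy'⟩ := hF
  have hyl := yLocus_eq_singleton hd (mem_yLocus_of_mem hd hy' (Submodule.subset_span hy))
  refine ⟨y, hyl, ?_⟩
  ext z
  rw [Set.mem_singleton_iff]
  constructor
  · rintro ⟨hz, hz'⟩
    have := mem_yLocus_of_mem hd hz' (Submodule.subset_span hz)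
    rwa [hyl] at this
  · rintro rfl
    exact ⟨hy, hy'⟩

end K817.Invar
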